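import Mathlib
import Cfsg.Agent.Lib.MultC.Pkg
import Cfsg.Agent.Lib.MultC.RuT.Base
import Cfsg.Agent.Lib.Ru.T.Main

/-! the permutation group of the package -/

set_option autoImplicit false
set_option maxRecDepth 100000

namespace CfsgLib.MultC.RuT

open CfsgLib.Comput CfsgLib.MultC

/-- the permutation group -/
noncomputable abbrev PG : Subgroup (Equiv.Perm (Fin 4060)) := cl (permG 4060 CfsgLib.Ru.T.W) CfsgLib.Ru.T.top

theorem model : PModel PG 4060 (finPt 4060) := (pModel_perm 4060 (by norm_num)).subgroup _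

theorem real0 : AllReal PG 4060 (finPt 4060) V0 :=
  AllReal.cons (isReal_cl CfsgLib.Ru.T.W_ok 0 (by norm_num) (by decide)) (AllReal.cons (isReal_cl CfsgLib.Ru.T.W_ok 1 (by norm_num) (by decide)) (AllReal.nil))

theorem card : Nat.card PG = 17971200 := CfsgLib.Ru.T.card_perm

instance : Finite PG := Nat.finite_of_card_ne_zero (by rw [card]; norm_num)

end CfsgLib.MultC.RuT
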