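import Mathlib
import Cfsg.Agent.Lib.MultC.RuT.OutD
import Cfsg.Agent.Lib.MultC.RuT.Base

/-! generated certificate -/

set_option autoImplicit false
set_option maxRecDepth 100000
set_option Elab.async false

namespace CfsgLib.MultC.RuT.O

open CfsgLib.Comput CfsgLib.MultC

theorem g0 : wordOK 4060 12 CfsgLib.MultC.RuT.U u0_0 [0x401080501090a0d12111211] = true := by decide +kernel
theorem g1 : wordOK 4060 12 CfsgLib.MultC.RuT.U u0_1 [0x50406020b0f0e0d0a12111211] = true := by decide +kernel
theorem g2 : wordOK 4060 12 CfsgLib.MultC.RuT.U u0_2 [0x60407010e0f09121112] = true := by decide +kernel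

end CfsgLib.MultC.RuT.O
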